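import Mathlib

/-! The discriminant of a quadratic in `z` over `K[x, y]` near the origin. -/

universe u

namespace Groth.Agent.PrymLib

open MvPolynomial

variable {K : Type u} [Field K]

theorem mem_vars_iff {σ : Type*} (P : MvPolynomial σ K) :
    P ∈ idealOfVars σ K ↔ constantCoeff P = 0 := by
  conv_lhs => rw [← pow_one (idealOfVars σ K)]
  rw [mem_pow_idealOfVars_iff']
  constructor
  · exact fun h => h 0 (by simp)
  · intro h x hx
    rw [Nat.lt_one_iff, Finsupp.degree_eq_zero_iff] at hx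
    subst hx
    exact h

local notation "I₂" => idealOfVars (Fin 2) K
local notation "I₃" => idealOfVars (Fin 3) K
local notation "ren" => MvPolynomial.rename (R := K) (Fin.castSucc : Fin 2 → Fin 3)

/-- The quadratic in `z`. -/
noncomputable def quad (G₂ G₃ G₄ : MvPolynomial (Fin 2) K) : MvPolynomial (Fin 3) K :=
  ren G₂ * X (2 : Fin 3) ^ 2 + 2 * ren G₃ * X (2 : Fin 3) + ren G₄

theorem map_ren_le : Ideal.map (ren).toRingHom I₂ ≤ I₃ := by
  rw [idealOfVars, Ideal.map_span, Ideal.span_le]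
  rintro _ ⟨_, ⟨i, rfl⟩, rfl⟩
  exact Ideal.subset_span ⟨i.castSucc, by simp⟩

/-- Setting `z = 0`. -/
noncomputable def setZ : MvPolynomial (Fin 3) K →ₐ[K] MvPolynomial (Fin 2) K :=
  aeval (Fin.snoc (fun i => X i) 0)

theorem setZ_ren (G : MvPolynomial (Fin 2) K) : setZ (ren G) = G := by
  rw [setZ, aeval_rename]
  have : (Fin.snoc (fun i => X i) 0 : Fin 3 → MvPolynomial (Fin 2) K) ∘ Fin.castSucc = X := by
    funext i
    simp [Fin.snoc_castSucc]
  rw [this, aeval_X_left_apply]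

theorem setZ_quad (G₂ G₃ G₄ : MvPolynomial (Fin 2) K) : setZ (quad G₂ G₃ G₄) = G₄ := by
  have hz : setZ (X (2 : Fin 3) : MvPolynomial (Fin 3) K) = 0 := by
    rw [setZ, aeval_X]; rfl
  simp [quad, setZ_ren, hz]

theorem map_setZ_le : Ideal.map (setZ (K := K)).toRingHom I₃ ≤ I₂ := by
  rw [idealOfVars, Ideal.map_span, Ideal.span_le]
  rintro _ ⟨_, ⟨i, rfl⟩, rfl⟩
  induction i using Fin.lastCases with
  | last =>
    show setZ (X (Fin.last 2)) ∈ I₂
    rw [setZ, aeval_X, Fin.snoc_last]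
    exact zero_mem _
  | cast i =>
    show setZ (X i.castSucc) ∈ I₂
    rw [setZ, aeval_X, Fin.snoc_castSucc]
    exact Ideal.subset_span ⟨i, rfl⟩

theorem G4_mem_of_quad {G₂ G₃ G₄ : MvPolynomial (Fin 2) K} {n : ℕ}
    (h : quad G₂ G₃ G₄ ∈ I₃ ^ n) : G₄ ∈ I₂ ^ n := by
  have := Ideal.mem_map_of_mem (setZ (K := K)).toRingHom h
  rw [Ideal.map_pow] at this
  have h2 : setZ (quad G₂ G₃ G₄) ∈ I₂ ^ n := Ideal.pow_right_mono map_setZ_le n this
  rwa [setZ_quad] at h2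

theorem G3_mem_of_quad (h2 : (2 : K) ≠ 0) {G₂ G₃ G₄ : MvPolynomial (Fin 2) K}
    (h : quad G₂ G₃ G₄ ∈ I₃ ^ 2) : G₃ ∈ I₂ := by
  let ev : MvPolynomial (Fin 3) K →ₐ[K] DualNumber K :=
    aeval (Fin.snoc (fun _ => 0) DualNumber.eps)
  have hev : ev (quad G₂ G₃ G₄) = 0 := by
    have h1 : Ideal.map ev.toRingHom (I₃ ^ 2) = ⊥ := by
      rw [Ideal.map_pow, eq_bot_iff]
      refine (Ideal.pow_right_mono (J := Ideal.span {DualNumber.eps}) ?_ 2).trans ?_
      · rw [idealOfVars, Ideal.map_span, Ideal.span_le]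
        rintro _ ⟨_, ⟨i, rfl⟩, rfl⟩
        induction i using Fin.lastCases with
        | last =>
            show ev (X (Fin.last 2)) ∈ _
            rw [aeval_X, Fin.snoc_last]
            exact Ideal.subset_span rfl
        | cast i => simp [ev, Fin.snoc_castSucc]
      · rw [Ideal.span_singleton_pow, pow_two, DualNumber.eps_mul_eps, Ideal.span_singleton_zero]
    exact (Ideal.mem_bot).mp (h1 ▸ Ideal.mem_map_of_mem ev.toRingHom h)
  have hren : ∀ G, ev (ren G) = algebraMap K (DualNumber K) (constantCoeff G) := fun G => by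
    simp only [ev, aeval_rename]
    have : (Fin.snoc (fun _ => 0) DualNumber.eps : Fin 3 → DualNumber K) ∘ Fin.castSucc =
        fun _ => 0 := by
      funext i
      simp [Fin.snoc_castSucc]
    rw [this, aeval_zero']
  have hX : ev (X (2 : Fin 3)) = DualNumber.eps := by
    rw [aeval_X]; rfl
  rw [quad, map_add, map_add, map_mul, map_mul, map_mul, map_pow, hX, hren, hren, hren, map_ofNat,
    pow_two, DualNumber.eps_mul_eps, mul_zero, zero_add] at hev
  have := congrArg TrivSqZeroExt.snd hev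
  rw [mem_vars_iff]
  rw [← map_ofNat (algebraMap K (DualNumber K)) 2, ← map_mul, TrivSqZeroExt.algebraMap_eq_inl] at this
  simp at this
  rcases this with this | this
  · exact absurd this h2
  · exact this

theorem discr_mem_sq (h2 : (2 : K) ≠ 0) {G₂ G₃ G₄ : MvPolynomial (Fin 2) K}
    (h : quad G₂ G₃ G₄ ∈ I₃ ^ 2) : G₃ ^ 2 - G₂ * G₄ ∈ I₂ ^ 2 :=
  sub_mem (Ideal.pow_mem_pow (G3_mem_of_quad h2 h) 2) (Ideal.mul_mem_left _ _ (G4_mem_of_quad h))

theorem discr_mem_sq_iff (h2 : (2 : K) ≠ 0) {G₂ G₃ G₄ : MvPolynomial (Fin 2) K}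
    (hQ : quad G₂ G₃ G₄ ∈ I₃) (hD : G₃ ^ 2 - G₂ * G₄ ∈ I₂) :
    G₃ ^ 2 - G₂ * G₄ ∈ I₂ ^ 2 ↔
      (quad G₂ G₃ G₄ ∈ I₃ ^ 2 ∨ (G₂ ∈ I₂ ∧ G₃ ∈ I₂ ∧ G₄ ∈ I₂)) := by
  have h4 : G₄ ∈ I₂ := by
    have := G4_mem_of_quad (n := 1) (G₂ := G₂) (G₃ := G₃) (by rwa [pow_one])
    rwa [pow_one] at this
  have h3 : G₃ ∈ I₂ := by
    rw [mem_vars_iff] at hD h4 ⊢
    simpa [h4] using hD
  constructor
  · intro h
    by_cases hc : constantCoeff G₂ = 0
    · exact Or.inr ⟨(mem_vars_iff _).mpr hc, h3, h4⟩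
    left
    have hmul : G₂ * G₄ ∈ I₂ ^ 2 := by
      have := sub_mem (Ideal.pow_mem_pow h3 2) h
      rwa [sub_sub_cancel] at this
    have hC : C (constantCoeff G₂) * G₄ ∈ I₂ ^ 2 := by
      have h' : (G₂ - C (constantCoeff G₂)) * G₄ ∈ I₂ ^ 2 := by
        rw [pow_two]
        exact Ideal.mul_mem_mul ((mem_vars_iff _).mpr (by simp)) h4
      have := sub_mem hmul h'
      rwa [← sub_mul, sub_sub_cancel] at this
    have h44 : G₄ ∈ I₂ ^ 2 := by
      have := Ideal.mul_mem_left _ (C (constantCoeff G₂)⁻¹) hC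
      rwa [← mul_assoc, ← C_mul, inv_mul_cancel₀ hc, C_1, one_mul] at this
    have hmem : ∀ {G : MvPolynomial (Fin 2) K} {n : ℕ}, G ∈ I₂ ^ n → ren G ∈ I₃ ^ n := fun hG => by
      have := Ideal.mem_map_of_mem (ren).toRingHom hG
      rw [Ideal.map_pow] at this
      exact Ideal.pow_right_mono map_ren_le _ this
    have hz : (X (2 : Fin 3) : MvPolynomial (Fin 3) K) ∈ I₃ := Ideal.subset_span ⟨2, rfl⟩
    refine add_mem (add_mem (Ideal.mul_mem_left _ _ (Ideal.pow_mem_pow hz 2)) ?_) (hmem h44)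
    rw [pow_two, mul_assoc]
    refine Ideal.mul_mem_left _ _ (Ideal.mul_mem_mul ?_ hz)
    simpa using hmem (n := 1) (by simpa using h3)
  · rintro (h | ⟨h2', h3', h4'⟩)
    · exact discr_mem_sq h2 h
    · refine sub_mem (Ideal.pow_mem_pow h3' 2) ?_
      rw [pow_two]
      exact Ideal.mul_mem_mul h2' h4'

end Groth.Agent.PrymLib
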